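import Groth.Agent.Fano.K254.NonDiv
import Groth.Agent.Fano.K948.FanoConeDim
import Groth.Agent.CInt.K139.GenSpec
import Groth.Agent.Lefpen.H718.Grade
import Groth.Agent.Lefpen.H702.PolyFun

/-!
# The lines through the generic point of a general hypersurface (node H2 of S16940)
-/

set_option autoImplicit false
universe u v w

open MvPolynomial

namespace Groth.Agent.Fano.K254.H2

open K948.FanoConeDim K139.GenSpec Groth.Agent.Lefpen.H718.Reg

section Along

variable {R : Type*} [CommRing R] {A : Type*} [CommRing A] {B : Type*} [CommRing B] {n : ℕ}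

/-- `G(v + t b)`, a polynomial in `t`. -/
noncomputable def along (φ : R →+* A) (G : MvPolynomial (Fin (n + 1)) R) (v b : Fin (n + 1) → A) : Polynomial A :=
  eval₂ (Polynomial.C.comp φ) (fun i => Polynomial.C (v i) + Polynomial.X * Polynomial.C (b i)) G

theorem along_map (φ : R →+* A) (q : A →+* B) (G : MvPolynomial (Fin (n + 1)) R) (v b : Fin (n + 1) → A) :
    along (q.comp φ) G (fun a => q (v a)) (fun a => q (b a)) = (along φ G v b).map q := by
  rw [along, along, ← Polynomial.coe_mapRingHom]
  have h2 := eval₂_comp_left (Polynomial.mapRingHom q) (Polynomial.C.comp φ)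
    (fun a => Polynomial.C (v a) + Polynomial.X * Polynomial.C (b a)) G
  rw [h2]
  congr 1
  · refine RingHom.ext fun x => ?_
    simp only [RingHom.comp_apply, Polynomial.coe_mapRingHom, Polynomial.map_C]
  · funext a
    simp only [Function.comp_apply, Polynomial.coe_mapRingHom, Polynomial.map_add, Polynomial.map_mul,
      Polynomial.map_C, Polynomial.map_X]

theorem along_comp {R' : Type*} [CommRing R'] (σ : R →+* R') (φ : R' →+* A) (G : MvPolynomial (Fin (n + 1)) R)
    (v b : Fin (n + 1) → A) : along (φ.comp σ) G v b = along φ (map σ G) v b := by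
  rw [along, along, eval₂_map]
  rfl

theorem coeff_zero_along (φ : R →+* A) (G : MvPolynomial (Fin (n + 1)) R) (v b : Fin (n + 1) → A) :
    (along φ G v b).coeff 0 = eval₂ φ v G := by
  rw [Polynomial.coeff_zero_eq_eval_zero, along, ← Polynomial.coe_evalRingHom]
  rw [eval₂_comp_left (Polynomial.evalRingHom (0 : A)) (Polynomial.C.comp φ)]
  congr 1
  · refine RingHom.ext fun x => ?_
    simp
  · funext a
    simp

/-- `G(v + t (0, x))`. -/
noncomputable def side (φ : R →+* A) (G : MvPolynomial (Fin (n + 1)) R) (a : Fin (n + 1) → A) :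
    Polynomial (MvPolynomial (Fin n) A) :=
  along (C.comp φ) G (fun i => C (a i)) (Fin.cons 0 X)

theorem side_map (φ : R →+* A) (q : A →+* B) (G : MvPolynomial (Fin (n + 1)) R) (a : Fin (n + 1) → A) :
    side (q.comp φ) G (fun i => q (a i)) = (side φ G a).map (map q) := by
  rw [side, side, ← along_map]
  congr 1
  · refine RingHom.ext fun x => ?_
    simp
  · funext i
    simp
  · funext i
    refine Fin.cases ?_ (fun j => ?_) i
    · simp
    · simp

theorem side_comp {R' : Type*} [CommRing R'] (σ : R →+* R') (φ : R' →+* A) (G : MvPolynomial (Fin (n + 1)) R)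
    (a : Fin (n + 1) → A) : side (φ.comp σ) G a = side φ (map σ G) a := by
  rw [side, side, ← along_comp]
  rfl

theorem coeff_zero_side (φ : R →+* A) (G : MvPolynomial (Fin (n + 1)) R) (a : Fin (n + 1) → A) :
    (side φ G a).coeff 0 = C (eval₂ φ a G) := by
  rw [side, coeff_zero_along]
  exact (eval₂_comp_left (C : A →+* MvPolynomial (Fin n) A) φ a G).symm

/-- polynomials in `t` whose coefficient of `t^j` is homogeneous of degree `j`. -/
def Diag (F : Polynomial (MvPolynomial (Fin n) A)) : Prop := ∀ j, (F.coeff j).IsHomogeneous j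

theorem Diag.add {F F' : Polynomial (MvPolynomial (Fin n) A)} (h : Diag F) (h' : Diag F') : Diag (F + F') := by
  intro j
  rw [Polynomial.coeff_add]
  exact (h j).add (h' j)

theorem Diag.mul {F F' : Polynomial (MvPolynomial (Fin n) A)} (h : Diag F) (h' : Diag F') : Diag (F * F') := by
  intro j
  rw [Polynomial.coeff_mul]
  refine IsHomogeneous.sum _ _ _ fun x hx => ?_
  have := (h x.1).mul (h' x.2)
  rwa [Finset.mem_antidiagonal.1 hx] at this

theorem Diag.C (a : A) : Diag (n := n) (Polynomial.C (MvPolynomial.C a)) := by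
  intro j
  rw [Polynomial.coeff_C]
  split_ifs with h
  · rw [h]
    exact isHomogeneous_C _ _
  · exact isHomogeneous_zero _ _ _

theorem Diag.XC (p : MvPolynomial (Fin n) A) (hp : p.IsHomogeneous 1) : Diag (Polynomial.X * Polynomial.C p) := by
  intro j
  rw [Polynomial.coeff_mul_C, Polynomial.coeff_X]
  split_ifs with h
  · rw [one_mul, ← h]
    exact hp
  · rw [zero_mul]
    exact isHomogeneous_zero _ _ _

theorem diag_side (φ : R →+* A) (G : MvPolynomial (Fin (n + 1)) R) (a : Fin (n + 1) → A) : Diag (side φ G a) := by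
  have hb : ∀ i, ((Fin.cons 0 X : Fin (n + 1) → MvPolynomial (Fin n) A) i).IsHomogeneous 1 := by
    intro i
    refine Fin.cases ?_ (fun j => ?_) i
    · exact isHomogeneous_zero _ _ _
    · exact isHomogeneous_X _ _
  induction G using MvPolynomial.induction_on with
  | C c =>
    rw [side, along, eval₂_C]
    exact Diag.C _
  | add p q hp hq =>
    rw [side, along, eval₂_add]
    exact Diag.add hp hq
  | mul_X p i hp =>
    rw [side, along, eval₂_mul, eval₂_X]
    exact Diag.mul hp (Diag.add (Diag.C _) (Diag.XC _ (hb i)))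

theorem natDegree_side_le (φ : R →+* A) (G : MvPolynomial (Fin (n + 1)) R) (a : Fin (n + 1) → A) {d : ℕ}
    (hG : G.totalDegree ≤ d) : (side φ G a).natDegree ≤ d := by
  classical
  rw [side, along, eval₂_eq']
  refine Polynomial.natDegree_sum_le_of_forall_le _ _ fun m hm => ?_
  refine Polynomial.natDegree_mul_le.trans ?_
  have h1 : (Polynomial.natDegree (((Polynomial.C : MvPolynomial (Fin n) A →+* _).comp (C.comp φ)) (coeff m G))) = 0 :=
    Polynomial.natDegree_C _
  rw [h1, zero_add]
  refine (Polynomial.natDegree_prod_le _ _).trans ?_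
  refine le_trans ?_ hG
  refine le_trans ?_ (le_totalDegree hm)
  rw [Finsupp.sum_fintype _ _ (fun _ => rfl)]
  refine Finset.sum_le_sum fun i _ => ?_
  refine Polynomial.natDegree_pow_le.trans ?_
  have h2 : (Polynomial.C (C (a i)) + Polynomial.X * Polynomial.C ((Fin.cons 0 X : Fin (n + 1) → MvPolynomial (Fin n) A) i)).natDegree ≤ 1 := by
    refine (Polynomial.natDegree_add_le _ _).trans (max_le ?_ ?_)
    · rw [Polynomial.natDegree_C]
      exact Nat.zero_le _
    · refine Polynomial.natDegree_mul_C_le _ _ |>.trans ?_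
      exact Polynomial.natDegree_X_le
  calc m i * _ ≤ m i * 1 := Nat.mul_le_mul_left _ h2
    _ = m i := mul_one _

end Along

section Cone

variable {k : Type u} [Field k] {n d : ℕ} {Ω : Type u} [Field Ω]

theorem along_eq_alongLine {A : Type*} [CommRing A] (φ : k →+* A) (G : MvPolynomial (Fin (n + 1)) k)
    (v b : Fin (n + 1) → A) : along φ G v b = alongLine φ G v b := rfl

/-- The forms `g_j`: `G(a + t (0, x)) = ∑ t^j g_j(x)`. -/
noncomputable def gs (φ : k →+* Ω) (G : MvPolynomial (Fin (n + 1)) k) (a : Fin (n + 1) → Ω) (d : ℕ) (j : Fin d) :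
    MvPolynomial (Fin n) Ω := (side φ G a).coeff (j + 1)

theorem gs_isHomogeneous (φ : k →+* Ω) (G : MvPolynomial (Fin (n + 1)) k) (a : Fin (n + 1) → Ω) (j : Fin d) :
    (gs φ G a d j).IsHomogeneous (j + 1) := diag_side φ G a _

theorem span_gs (φ : k →+* Ω) (G : MvPolynomial (Fin (n + 1)) k) (a : Fin (n + 1) → Ω) (hG : G.totalDegree ≤ d)
    (h0 : eval₂ φ a G = 0) :
    Ideal.span (Set.range fun j : ℕ => (side φ G a).coeff j) = Ideal.span (Set.range (gs φ G a d)) := by
  apply le_antisymm
  · rw [Ideal.span_le]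
    rintro _ ⟨j, rfl⟩
    rcases j with _ | j
    · change (side φ G a).coeff 0 ∈ _
      rw [coeff_zero_side, h0, map_zero]
      exact zero_mem _
    · by_cases hj : j < d
      · exact Ideal.subset_span ⟨⟨j, hj⟩, rfl⟩
      · change (side φ G a).coeff (j + 1) ∈ _
        rw [Polynomial.coeff_eq_zero_of_natDegree_lt]
        · exact zero_mem _
        · have := natDegree_side_le φ G a hG
          omega
  · rw [Ideal.span_le]
    rintro _ ⟨j, rfl⟩
    exact Ideal.subset_span ⟨j + 1, rfl⟩

/-- extension of a prime ideal along `MvPolynomial.rename Fin.succ` is prime. -/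
theorem isPrime_map_rename {F : Type*} [CommRing F] (J : Ideal (MvPolynomial (Fin n) F)) [J.IsPrime] :
    (J.map (rename (R := F) (Fin.succ : Fin n → Fin (n + 1))).toRingHom).IsPrime := by
  have h1 : (J.map (rename (R := F) (Fin.succ : Fin n → Fin (n + 1))).toRingHom) =
      (J.map (Polynomial.C : MvPolynomial (Fin n) F →+* _)).comap (finSuccEquiv F n).toRingEquiv.toRingHom := by
    have h2 : (Polynomial.C : MvPolynomial (Fin n) F →+* _) =
        (finSuccEquiv F n).toRingEquiv.toRingHom.comp (rename (R := F) (Fin.succ : Fin n → Fin (n + 1))).toRingHom := by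
      refine MvPolynomial.ringHom_ext (fun c => ?_) (fun i => ?_)
      · simp [finSuccEquiv_apply]
      · simp [finSuccEquiv_X_succ]
    rw [h2, ← Ideal.map_map]
    exact (Ideal.comap_map_of_bijective _ (finSuccEquiv F n).toRingEquiv.bijective).symm
  rw [h1]
  have h3 : (J.map (Polynomial.C : MvPolynomial (Fin n) F →+* _)).IsPrime := Ideal.isPrime_map_C_of_isPrime
  infer_instance

theorem shift {A : Type u} [CommRing A] (φ : k →+* A) (G : LefPen.Form n k d) (v b : Fin (n + 1) → A) (c : A)
    (h : alongLine φ G.1 v b = 0) : alongLine φ G.1 v (fun i => b i - c * v i) = 0 := by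
  have h1 := restr_sub φ G v b c (restr_eq_zero φ G v b h)
  have h2 : ∀ b' : Fin (n + 1) → A, alongLine φ G.1 v b' =
      eval₂ Polynomial.C ![1, Polynomial.X] (K188.LineDef.restr φ G v b') := by
    intro b'
    rw [alongLine, K188.LineDef.restr]
    have h3 := eval₂_comp_left (eval₂Hom Polynomial.C ![1, Polynomial.X] : MvPolynomial (Fin 2) A →+* Polynomial A)
      (C.comp φ) (K188.LineDef.lin v b') G.1
    refine Eq.trans ?_ h3.symm
    congr 1
    · refine RingHom.ext fun x => ?_
      simp only [RingHom.comp_apply, coe_eval₂Hom, eval₂_C]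
    · funext a
      simp only [Function.comp_apply, K188.LineDef.lin, coe_eval₂Hom, eval₂_add, eval₂_mul, eval₂_C, eval₂_X,
        Matrix.cons_val_zero, Matrix.cons_val_one, mul_one]
      rw [mul_comm (Polynomial.C (b' a))]
  rw [h2, h1, eval₂_zero]

/-- the ideal of the coefficients dies under a ring map iff the polynomial does. -/
theorem along_eq_zero_of_le {A B : Type*} [CommRing A] [CommRing B] (φ : k →+* A) (q : A →+* B)
    (G : MvPolynomial (Fin (n + 1)) k) (v b : Fin (n + 1) → A)
    (h : Ideal.span (Set.range fun j : ℕ => (alongLine φ G v b).coeff j) ≤ RingHom.ker q) :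
    alongLine (q.comp φ) G (fun a => q (v a)) (fun a => q (b a)) = 0 := by
  rw [alongLine_map]
  ext j
  rw [Polynomial.coeff_map, Polynomial.coeff_zero]
  exact h (Ideal.subset_span ⟨j, rfl⟩)

theorem le_of_along_eq_zero {A B : Type*} [CommRing A] [CommRing B] (φ : k →+* A) (q : A →+* B)
    (G : MvPolynomial (Fin (n + 1)) k) (v b : Fin (n + 1) → A)
    (h : alongLine (q.comp φ) G (fun a => q (v a)) (fun a => q (b a)) = 0) :
    Ideal.span (Set.range fun j : ℕ => (alongLine φ G v b).coeff j) ≤ RingHom.ker q := by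
  rw [alongLine_map] at h
  rw [Ideal.span_le]
  rintro _ ⟨j, rfl⟩
  have := congrArg (fun p : Polynomial B => p.coeff j) h
  simp only [Polynomial.coeff_map, Polynomial.coeff_zero] at this
  exact this

theorem isPrime_lineIdeal (φ : k →+* Ω) (G : LefPen.Form n k d) (a : Fin (n + 1) → Ω) (ha : a 0 ≠ 0)
    (hJ : (Ideal.span (Set.range fun j : ℕ => (side φ G.1 a).coeff j)).IsPrime) :
    (lineIdeal φ G.1 a).IsPrime := by
  let J : Ideal (MvPolynomial (Fin n) Ω) := Ideal.span (Set.range fun j : ℕ => (side φ G.1 a).coeff j)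
  let ρ : MvPolynomial (Fin n) Ω →+* MvPolynomial (Fin (n + 1)) Ω := (rename (R := Ω) (Fin.succ : Fin n → Fin (n + 1))).toRingHom
  have hρC : ρ.comp C = C := by
    refine RingHom.ext fun c => ?_
    simp [ρ]
  let b' : Fin (n + 1) → MvPolynomial (Fin (n + 1)) Ω := Fin.cons 0 (fun i => X (Fin.succ i))
  have hρb : (fun i => ρ ((Fin.cons 0 X : Fin (n + 1) → MvPolynomial (Fin n) Ω) i)) = b' := by
    funext i
    refine Fin.cases ?_ (fun j => ?_) i
    · simp [b']
    · simp [ρ, b']
  -- the ideal of the side directions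
  have hJ' : J.map ρ = Ideal.span (Set.range fun j : ℕ => (alongLine (C.comp φ) G.1 (fun i => C (a i)) b').coeff j) := by
    have h1 : alongLine (C.comp φ) G.1 (fun i => C (a i)) b' = (side φ G.1 a).map ρ := by
      have h2 := along_map (C.comp φ) ρ G.1 (fun i => C (a i)) (Fin.cons 0 X : Fin (n + 1) → MvPolynomial (Fin n) Ω)
      rw [hρb, ← RingHom.comp_assoc, hρC] at h2
      rw [side, ← h2]
      change _ = along _ _ (fun i => (ρ.comp C) (a i)) _
      rw [hρC]
      rfl
    rw [h1, Ideal.map_span, ← Set.range_comp]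
    congr 1
    congr 1
    funext j
    simp [Polynomial.coeff_map]
  have hprime : (J.map ρ).IsPrime := isPrime_map_rename J
  rw [hJ'] at hprime
  -- the change of variables
  let θ : MvPolynomial (Fin (n + 1)) Ω →ₐ[Ω] MvPolynomial (Fin (n + 1)) Ω :=
    aeval (fun i => b' i + X 0 * C (a i))
  let θ' : MvPolynomial (Fin (n + 1)) Ω →ₐ[Ω] MvPolynomial (Fin (n + 1)) Ω :=
    aeval (Fin.cons (C (a 0)⁻¹ * X 0) (fun i => X (Fin.succ i) - C ((a 0)⁻¹ * a (Fin.succ i)) * X 0))
  have hθ' : θ'.comp θ = AlgHom.id Ω _ := by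
    refine MvPolynomial.algHom_ext fun i => ?_
    have h0 : C (a 0)⁻¹ * C (a 0) = (1 : MvPolynomial (Fin (n + 1)) Ω) := by
      rw [← C_mul, inv_mul_cancel₀ ha, C_1]
    refine Fin.cases ?_ (fun j => ?_) i
    · simp only [θ, θ', b', AlgHom.comp_apply, aeval_X, Fin.cons_zero, zero_add, map_mul, AlgHom.id_apply]
      rw [← algebraMap_eq, AlgHom.commutes, algebraMap_eq]
      linear_combination (X 0) * h0
    · simp only [θ, θ', b', AlgHom.comp_apply, aeval_X, Fin.cons_succ, map_add, map_mul, AlgHom.id_apply, Fin.cons_zero]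
      rw [← algebraMap_eq, AlgHom.commutes, algebraMap_eq]
      ring
  have key : lineIdeal φ G.1 a = (Ideal.span (Set.range fun j : ℕ =>
      (alongLine (C.comp φ) G.1 (fun i => C (a i)) b').coeff j)).comap θ.toRingHom := by
    apply le_antisymm
    · -- the quotient by the side ideal
      rw [← Ideal.map_le_iff_le_comap]
      set I := Ideal.span (Set.range fun j : ℕ => (alongLine (C.comp φ) G.1 (fun i => C (a i)) b').coeff j) with hI
      have h1 : lineIdeal φ G.1 a ≤ RingHom.ker ((Ideal.Quotient.mk I).comp θ.toRingHom) := by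
        refine le_of_along_eq_zero (C.comp φ) _ G.1 _ _ ?_
        have h2 := along_eq_zero_of_le (C.comp φ) (Ideal.Quotient.mk I) G.1 (fun i => C (a i)) b' (by rw [Ideal.mk_ker])
        have h3 := shift ((Ideal.Quotient.mk I).comp (C.comp φ)) G _ _ (-(Ideal.Quotient.mk I (X 0))) h2
        have h4 : ((Ideal.Quotient.mk I).comp θ.toRingHom).comp (C.comp φ) = (Ideal.Quotient.mk I).comp (C.comp φ) := by
          refine RingHom.ext fun c => ?_
          simp [θ]
        rw [h4]
        convert h3 using 2
        · simp [θ]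
        · simp [θ]
          funext i
          ring
      rw [Ideal.map_le_iff_le_comap]
      intro x hx
      have h5 := h1 hx
      rw [RingHom.mem_ker, RingHom.comp_apply, Ideal.Quotient.eq_zero_iff_mem] at h5
      exact h5
    · intro x hx
      rw [Ideal.mem_comap] at hx
      have h1 : Ideal.span (Set.range fun j : ℕ => (alongLine (C.comp φ) G.1 (fun i => C (a i)) b').coeff j) ≤
          RingHom.ker ((Ideal.Quotient.mk (lineIdeal φ G.1 a)).comp θ'.toRingHom) := by
        refine le_of_along_eq_zero (C.comp φ) _ G.1 _ _ ?_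
        have h2 := along_eq_zero_of_le (C.comp φ) (Ideal.Quotient.mk (lineIdeal φ G.1 a)) G.1 (fun i => C (a i)) X
          (by rw [Ideal.mk_ker]; exact le_rfl)
        have h3 := shift ((Ideal.Quotient.mk (lineIdeal φ G.1 a)).comp (C.comp φ)) G _ _
          (Ideal.Quotient.mk (lineIdeal φ G.1 a) (C (a 0)⁻¹ * X 0)) h2
        have h4 : ((Ideal.Quotient.mk (lineIdeal φ G.1 a)).comp θ'.toRingHom).comp (C.comp φ) =
            (Ideal.Quotient.mk (lineIdeal φ G.1 a)).comp (C.comp φ) := by
          refine RingHom.ext fun c => ?_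
          simp [θ']
        rw [h4]
        have h0 : C (a 0)⁻¹ * C (a 0) = (1 : MvPolynomial (Fin (n + 1)) Ω) := by
          rw [← C_mul, inv_mul_cancel₀ ha, C_1]
        convert h3 using 2
        · simp [θ']
        · funext i
          rw [RingHom.comp_apply, ← map_mul, ← map_sub]
          congr 1
          refine Fin.cases ?_ (fun j => ?_) i
          · simp only [b', Fin.cons_zero, map_zero]
            linear_combination (X 0) * h0
          · simp only [b', Fin.cons_succ]
            change θ' (X (Fin.succ j)) = _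
            simp only [θ', aeval_X, Fin.cons_succ, C_mul]
            ring
      have h6 := h1 hx
      rw [RingHom.mem_ker, RingHom.comp_apply, Ideal.Quotient.eq_zero_iff_mem] at h6
      have h7 : θ' (θ x) = x := by
        have := congrArg (fun f : MvPolynomial (Fin (n + 1)) Ω →ₐ[Ω] MvPolynomial (Fin (n + 1)) Ω => f x) hθ'
        simpa using this
      change θ' (θ x) ∈ _ at h6
      rwa [h7] at h6
  rw [key]
  exact Ideal.IsPrime.comap _

end Cone

end Groth.Agent.Fano.K254.H2
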