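import Groth.Agent.Fano.K254.H2

/-!
# The lines through the generic point of a general hypersurface, II

`isGeneric_isDomain`: for a general form `G` of degree `d`, `1 ≤ d`, `d + 2 ≤ n`, and every field valued generic point
`a` of the cone `G = 0` (i.e. the kernel of the evaluation at `a` is `(G)`), the ring of the directions `b` such that
`G` vanishes on the line `a + t b` is a domain.
-/

set_option autoImplicit false
universe u v w

open MvPolynomial

namespace Groth.Agent.Fano.K254.H2

open K948.FanoConeDim K139.GenSpec Groth.Agent.Lefpen.H718.Reg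

section Hf

variable {k : Type u} [Field k] {N d : ℕ} (c0 : Idx N d → k) (P : MvPolynomial (Idx N d) k)

open Classical in
/-- the coefficients of the side forms, completed by the constants `c0`. -/
noncomputable def cc {R : Type*} [CommRing R] [Algebra k R] {A : Type*} [CommRing A] (φ : R →+* A)
    (G : MvPolynomial (Fin (N + 1 + 1)) R) (a : Fin (N + 1 + 1) → A) (s : Idx N d) : A :=
  if s.2.degree = (s.1 : ℕ) + 1 then coeff s.2 ((side φ G a).coeff (s.1 + 1)) else φ (algebraMap k R (c0 s))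

/-- the value of `P` at these. -/
noncomputable def Hf {R : Type*} [CommRing R] [Algebra k R] {A : Type*} [CommRing A] (φ : R →+* A)
    (G : MvPolynomial (Fin (N + 1 + 1)) R) (a : Fin (N + 1 + 1) → A) : A :=
  eval₂ (φ.comp (algebraMap k R)) (cc c0 φ G a) P

theorem map_cc {R : Type*} [CommRing R] [Algebra k R] {A B : Type*} [CommRing A] [CommRing B] (φ : R →+* A)
    (q : A →+* B) (G : MvPolynomial (Fin (N + 1 + 1)) R) (a : Fin (N + 1 + 1) → A) (s : Idx N d) :
    q (cc c0 φ G a s) = cc c0 (q.comp φ) G (fun i => q (a i)) s := by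
  rw [cc, cc]
  split_ifs with h
  · rw [side_map, Polynomial.coeff_map, coeff_map]
  · rfl

theorem map_Hf {R : Type*} [CommRing R] [Algebra k R] {A B : Type*} [CommRing A] [CommRing B] (φ : R →+* A)
    (q : A →+* B) (G : MvPolynomial (Fin (N + 1 + 1)) R) (a : Fin (N + 1 + 1) → A) :
    q (Hf c0 P φ G a) = Hf c0 P (q.comp φ) G (fun i => q (a i)) := by
  rw [Hf, Hf, eval₂_comp_left]
  congr 1
  funext s
  exact map_cc c0 φ q G a s

theorem Hf_comp {R R' : Type*} [CommRing R] [CommRing R'] [Algebra k R] [Algebra k R'] {A : Type*} [CommRing A]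
    (σ : R →ₐ[k] R') (φ : R' →+* A) (G : MvPolynomial (Fin (N + 1 + 1)) R) (a : Fin (N + 1 + 1) → A) :
    Hf c0 P (φ.comp σ.toRingHom) G a = Hf c0 P φ (map σ.toRingHom G) a := by
  rw [Hf, Hf]
  congr 1
  · refine RingHom.ext fun x => ?_
    simp
  · funext s
    rw [cc, cc]
    split_ifs with h
    · rw [side_comp]
    · simp

/-- the generic forms specialise to the side forms. -/
theorem map_gen {Ω : Type u} [Field Ω] (φ : k →+* Ω) (G : MvPolynomial (Fin (N + 1 + 1)) k)
    (a : Fin (N + 1 + 1) → Ω) (j : Fin d) :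
    map (eval₂Hom φ (cc c0 φ G a)) (gen k N d (fun i => (i : ℕ) + 1) j) = gs φ G a d j := by
  ext m
  rw [coeff_map]
  by_cases hm : m.degree = (j : ℕ) + 1
  · rw [coeff_gen k N d (fun i => (i : ℕ) + 1) j m hm]
    simp only [coe_eval₂Hom, eval₂_X]
    rw [cc, if_pos hm]
    rfl
  · rw [(gen_isHomogeneous k N d (fun i => (i : ℕ) + 1) j).coeff_eq_zero hm, map_zero,
      (gs_isHomogeneous φ G a j).coeff_eq_zero hm]

end Hf

section Special

variable {k : Type u} [Field k] {N d : ℕ} (c0 : Idx N d → k)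

/-- the special form `G_0 = ∑ x_0^(d-1-j) g_j(x_1..)`. -/
noncomputable def G0 : MvPolynomial (Fin (N + 1 + 1)) k :=
  ∑ j : Fin d, X 0 ^ (d - 1 - (j : ℕ)) * rename Fin.succ (map (eval c0) (gen k N d (fun i => (i : ℕ) + 1) j))

theorem G0_isHomogeneous : (G0 (N := N) c0).IsHomogeneous d := by
  refine IsHomogeneous.sum _ _ _ fun j _ => ?_
  have h1 : (X 0 ^ (d - 1 - (j : ℕ)) : MvPolynomial (Fin (N + 1 + 1)) k).IsHomogeneous (d - 1 - (j : ℕ)) := by
    have := (isHomogeneous_X k (0 : Fin (N + 1 + 1))).pow (d - 1 - (j : ℕ))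
    rwa [one_mul] at this
  have h2 := ((gen_isHomogeneous k N d (fun i => (i : ℕ) + 1) j).map (eval c0)).rename_isHomogeneous (f := Fin.succ)
  have h3 := h1.mul h2
  have h4 : d - 1 - (j : ℕ) + ((j : ℕ) + 1) = d := by have := j.2; omega
  rwa [h4] at h3

/-- evaluation of a homogeneous polynomial at a multiple. -/
theorem eval₂_smul {R A : Type*} [CommRing R] [CommRing A] {σ : Type*} [Finite σ] (φ : R →+* A) (g : MvPolynomial σ R) {m : ℕ}
    (hg : g.IsHomogeneous m) (t : A) (x : σ → A) : eval₂ φ (fun i => t * x i) g = t ^ m * eval₂ φ x g := by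
  have := Fintype.ofFinite σ
  rw [eval₂_eq', eval₂_eq', Finset.mul_sum]
  refine Finset.sum_congr rfl fun e he => ?_
  have h1 : e.degree = m := by
    by_contra hne
    exact mem_support_iff.1 he (hg.coeff_eq_zero hne)
  simp_rw [mul_pow]
  rw [Finset.prod_mul_distrib, Finset.prod_pow_eq_pow_sum, ← Finsupp.degree_eq_sum, h1]
  ring

/-- `G_0` along a line through the point `(1, 0)`. -/
theorem along_G0 {A : Type*} [CommRing A] (φ : k →+* A) (b : Fin (N + 1) → A) :
    along φ (G0 (N := N) c0) (Fin.cons 1 0) (Fin.cons 0 b) =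
      ∑ j : Fin d, Polynomial.X ^ ((j : ℕ) + 1) *
        Polynomial.C (eval₂ φ b (map (eval c0) (gen k N d (fun i => (i : ℕ) + 1) j))) := by
  rw [along, G0, ← coe_eval₂Hom, map_sum]
  refine Finset.sum_congr rfl fun j _ => ?_
  rw [map_mul, map_pow, coe_eval₂Hom, eval₂_X, eval₂_rename]
  simp only [Fin.cons_zero, map_one, map_zero, mul_zero, add_zero, one_pow, one_mul]
  have h1 : ((fun i => Polynomial.C ((Fin.cons 1 0 : Fin (N + 1 + 1) → A) i) +
      Polynomial.X * Polynomial.C ((Fin.cons 0 b : Fin (N + 1 + 1) → A) i)) ∘ Fin.succ) =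
      fun i => Polynomial.X * Polynomial.C (b i) := by
    funext i
    simp
  rw [h1, eval₂_smul _ _ ((gen_isHomogeneous k N d (fun i => (i : ℕ) + 1) j).map (eval c0))]
  congr 1
  exact (eval₂_comp_left (Polynomial.C : A →+* Polynomial A) φ b _).symm

theorem coeff_along_G0 {A : Type*} [CommRing A] (φ : k →+* A) (b : Fin (N + 1) → A) (j : Fin d) :
    (along φ (G0 (N := N) c0) (Fin.cons 1 0) (Fin.cons 0 b)).coeff ((j : ℕ) + 1) =
      eval₂ φ b (map (eval c0) (gen k N d (fun i => (i : ℕ) + 1) j)) := by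
  rw [along_G0, Polynomial.finsetSum_coeff, Finset.sum_eq_single j]
  · rw [Polynomial.coeff_mul_C, Polynomial.coeff_X_pow, if_pos rfl, one_mul]
  · intro i _ hi
    rw [Polynomial.coeff_mul_C, Polynomial.coeff_X_pow, if_neg, zero_mul]
    intro h
    exact hi (Fin.ext (by omega))
  · intro h
    exact absurd (Finset.mem_univ j) h

theorem cc_G0 (s : Idx N d) : cc c0 (RingHom.id k) (G0 (N := N) c0) (Fin.cons 1 0) s = c0 s := by
  obtain ⟨j, m⟩ := s
  rw [cc]
  split_ifs with h
  · have h1 : side (RingHom.id k) (G0 (N := N) c0) (Fin.cons 1 0) =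
        along C (G0 (N := N) c0) (Fin.cons 1 0) (Fin.cons 0 X) := by
      rw [side]
      congr 1
      funext i
      refine Fin.cases ?_ (fun j => ?_) i
      · simp
      · simp
    change coeff m ((side (RingHom.id k) (G0 (N := N) c0) (Fin.cons 1 0)).coeff ((j : ℕ) + 1)) = _
    rw [h1, coeff_along_G0]
    have h2 : eval₂ C X (map (eval c0) (gen k N d (fun i => (i : ℕ) + 1) j)) =
        map (eval c0) (gen k N d (fun i => (i : ℕ) + 1) j) := eval₂_eta _
    rw [h2, coeff_map]
    change m.degree = (j : ℕ) + 1 at h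
    rw [coeff_gen k N d (fun i => (i : ℕ) + 1) j m h, eval_X]
  · rfl

end Special

section Final

variable {k : Type u} [Field k] {n d : ℕ}

/-- the universal form. -/
noncomputable def GG (k : Type u) [Field k] (n d : ℕ) :
    MvPolynomial (Fin (n + 1)) (MvPolynomial {e : Fin (n + 1) →₀ ℕ // e.degree = d} k) :=
  ∑ m ∈ Finset.finsuppAntidiag Finset.univ d, monomial m (if h : m.degree = d then X ⟨m, h⟩ else 0)

theorem coeff_GG (m : Fin (n + 1) →₀ ℕ) :
    coeff m (GG k n d) = if h : m.degree = d then X ⟨m, h⟩ else 0 := by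
  classical
  rw [GG, coeff_sum]
  by_cases hm : m.degree = d
  · rw [Finset.sum_eq_single m]
    · rw [coeff_monomial, if_pos rfl]
    · intro b _ hb
      rw [coeff_monomial, if_neg hb]
    · intro h
      exfalso
      apply h
      rw [Finset.mem_finsuppAntidiag]
      refine ⟨?_, Finset.subset_univ _⟩
      rw [← hm, Finsupp.degree_eq_sum]
  · rw [dif_neg hm]
    refine Finset.sum_eq_zero fun b hb => ?_
    rw [coeff_monomial]
    split_ifs with h1 h2
    · exact absurd (h1 ▸ h2) hm
    · rfl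
    · rfl

theorem map_GG (G : LefPen.Form n k d) :
    map (aeval (Groth.Agent.Lefpen.H702.PolyFun.formCoords n k d G) :
      MvPolynomial {e : Fin (n + 1) →₀ ℕ // e.degree = d} k →ₐ[k] k).toRingHom (GG k n d) = G.1 := by
  ext m
  rw [coeff_map, coeff_GG]
  split_ifs with h
  · simp
  · rw [map_zero]
    have h1 : (G.1).IsHomogeneous d := (mem_homogeneousSubmodule d G.1).1 G.2
    exact (h1.coeff_eq_zero h).symm

/-- a linear form at the first coordinate vector. -/
theorem eval₂_linear {A : Type*} [CommRing A] (g : MvPolynomial (Fin (n + 1)) A) (hg : g.IsHomogeneous 1) :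
    eval₂ (RingHom.id A) (Fin.cons 1 0 : Fin (n + 1) → A) g = coeff (Finsupp.single 0 1) g := by
  classical
  rw [eval₂_eq', Finset.sum_eq_single (Finsupp.single (0 : Fin (n + 1)) 1)]
  · rw [Finset.prod_eq_single (0 : Fin (n + 1))]
    · simp
    · intro i _ hi
      rw [Finsupp.single_eq_of_ne hi, pow_zero]
    · intro h
      exact absurd (Finset.mem_univ _) h
  · intro e he hne
    have h1 : e.degree = 1 := by
      by_contra h
      exact mem_support_iff.1 he (hg.coeff_eq_zero h)
    obtain ⟨i, hi, hi'⟩ : ∃ i : Fin (n + 1), i ≠ 0 ∧ e i ≠ 0 := by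
      by_contra hcon
      push Not at hcon
      apply hne
      ext i
      by_cases hi : i = 0
      · subst hi
        rw [Finsupp.single_eq_same]
        rw [Finsupp.degree_eq_sum, Finset.sum_eq_single (0 : Fin (n + 1))] at h1
        · exact h1
        · intro j _ hj
          exact hcon j hj
        · intro h
          exact absurd (Finset.mem_univ _) h
      · rw [Finsupp.single_eq_of_ne hi]
        exact hcon i hi
    rw [Finset.prod_eq_zero (Finset.mem_univ i), mul_zero]
    obtain ⟨j, rfl⟩ := Fin.exists_succ_eq.2 hi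
    rw [Fin.cons_succ, Pi.zero_apply, zero_pow hi']
  · intro h
    rw [notMem_support_iff.1 h]
    simp

/-- **Node H2.** -/
theorem isGeneric_isPrime [Infinite k] (hd : 1 ≤ d) (hdn : d + 2 ≤ n) :
    LefPen.IsGeneric k {G : LefPen.Form n k d | ∀ (Ω : Type u) [Field Ω] (φ : k →+* Ω) (a : Fin (n + 1) → Ω),
      RingHom.ker (eval₂Hom φ a) = Ideal.span {G.1} → (lineIdeal φ G.1 a).IsPrime} := by
  obtain ⟨N, rfl⟩ : ∃ N, n = N + 1 := ⟨n - 1, by omega⟩
  obtain ⟨P, hP0, hP⟩ := exists_open (gen k N d (fun i => (i : ℕ) + 1))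
    (jacCond_gen k N d (fun i => (i : ℕ) + 1) (fun _ => Nat.succ_pos _) id Function.injective_id)
  -- the special point
  let s1 : Idx N d := (⟨0, hd⟩, Finsupp.single 0 1)
  have hF : P * X s1 ≠ 0 := mul_ne_zero hP0 (X_ne_zero _)
  obtain ⟨c0, hc0⟩ : ∃ c0 : Idx N d → k, eval c0 (P * X s1) ≠ 0 := by
    by_contra hcon
    push Not at hcon
    exact hF (MvPolynomial.funext fun x => by rw [hcon x, map_zero])
  rw [map_mul, eval_X] at hc0
  have hc1 := left_ne_zero_of_mul hc0
  have hc2 := right_ne_zero_of_mul hc0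
  let R := MvPolynomial {e : Fin (N + 1 + 1) →₀ ℕ // e.degree = d} k
  let p : Polynomial R := along (RingHom.id R) (GG k (N + 1) d) (Fin.cons 1 0) (Fin.cons 0 (Fin.cons 1 0))
  let ll : Fin (N + 1 + 1) → Polynomial R := fun i =>
    Polynomial.C ((Fin.cons 1 0 : Fin (N + 1 + 1) → R) i) +
      Polynomial.X * Polynomial.C ((Fin.cons 0 (Fin.cons 1 0) : Fin (N + 1 + 1) → R) i)
  let q : Polynomial R := Hf c0 P Polynomial.C (GG k (N + 1) d) ll
  let ll' : Fin (N + 1 + 1) → Polynomial k := fun i =>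
    Polynomial.C ((Fin.cons 1 0 : Fin (N + 1 + 1) → k) i) +
      Polynomial.X * Polynomial.C ((Fin.cons 0 (Fin.cons 1 0) : Fin (N + 1 + 1) → k) i)
  let σ : LefPen.Form (N + 1) k d → (R →ₐ[k] k) := fun G =>
    aeval (Groth.Agent.Lefpen.H702.PolyFun.formCoords (N + 1) k d G)
  have hcons0 : ∀ (f : R →+* k), (fun i => f ((Fin.cons 1 0 : Fin (N + 1 + 1) → R) i)) = (Fin.cons 1 0) := by
    intro f
    funext i
    refine Fin.cases ?_ (fun j => ?_) i
    · simp
    · simp
  have hcons1 : ∀ (f : R →+* k), (fun i => f ((Fin.cons 0 (Fin.cons 1 0) : Fin (N + 1 + 1) → R) i)) =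
      (Fin.cons 0 (Fin.cons 1 0)) := by
    intro f
    funext i
    refine Fin.cases ?_ (fun j => ?_) i
    · simp
    · refine Fin.cases ?_ (fun j => ?_) j
      · simp
      · simp
  have hp : ∀ G : LefPen.Form (N + 1) k d, p.map (σ G).toRingHom =
      along (RingHom.id k) G.1 (Fin.cons 1 0) (Fin.cons 0 (Fin.cons 1 0)) := by
    intro G
    have h1 := along_map (RingHom.id R) (σ G).toRingHom (GG k (N + 1) d) (Fin.cons 1 0)
      (Fin.cons 0 (Fin.cons 1 0))
    rw [hcons0, hcons1, RingHom.comp_id] at h1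
    rw [← h1, ← map_GG G, ← along_comp, RingHom.id_comp]
  have hq : ∀ G : LefPen.Form (N + 1) k d, q.map (σ G).toRingHom = Hf c0 P Polynomial.C G.1 ll' := by
    intro G
    have h1 := map_Hf c0 P (Polynomial.C : R →+* Polynomial R) (Polynomial.mapRingHom (σ G).toRingHom)
      (GG k (N + 1) d) ll
    rw [Polynomial.coe_mapRingHom] at h1
    refine h1.trans ?_
    have h2 : (Polynomial.mapRingHom (σ G).toRingHom).comp (Polynomial.C : R →+* Polynomial R) =
        (Polynomial.C : k →+* Polynomial k).comp (σ G).toRingHom := by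
      refine RingHom.ext fun x => ?_
      simp
    rw [h2, Hf_comp, map_GG]
    congr 1
    funext i
    have h3 := congrFun (hcons0 (σ G).toRingHom) i
    have h4 := congrFun (hcons1 (σ G).toRingHom) i
    simp only [ll, ll', Polynomial.map_add, Polynomial.map_mul, Polynomial.map_C, Polynomial.map_X]
    rw [h3, h4]
  -- the special form
  let Gs : LefPen.Form (N + 1) k d := ⟨G0 c0, (mem_homogeneousSubmodule d _).2 (G0_isHomogeneous c0)⟩
  have hp0 : along (RingHom.id k) Gs.1 (Fin.cons 1 0) (Fin.cons 0 (Fin.cons 1 0)) ≠ 0 := by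
    intro h0
    have h1 := coeff_along_G0 c0 (RingHom.id k) (Fin.cons 1 0 : Fin (N + 1) → k) ⟨0, hd⟩
    have h2 : (along (RingHom.id k) Gs.1 (Fin.cons 1 0) (Fin.cons 0 (Fin.cons 1 0))).coeff (0 + 1) = 0 := by
      rw [h0, Polynomial.coeff_zero]
    rw [h1] at h2
    have h3 := (gen_isHomogeneous k N d (fun i => (i : ℕ) + 1) ⟨0, hd⟩).map (eval c0)
    rw [eval₂_linear _ h3, coeff_map, coeff_gen k N d (fun i => (i : ℕ) + 1) ⟨0, hd⟩ (Finsupp.single 0 1) (by simp),
      eval_X] at h2
    exact hc2 h2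
  have hpz : (along (RingHom.id k) Gs.1 (Fin.cons 1 0) (Fin.cons 0 (Fin.cons 1 0))).eval 0 = 0 := by
    change (along (RingHom.id k) (G0 (N := N) c0) (Fin.cons 1 0) (Fin.cons 0 (Fin.cons 1 0))).eval 0 = 0
    rw [along_G0, Polynomial.eval_finsetSum]
    refine Finset.sum_eq_zero fun j _ => ?_
    simp
  have hqz : (Hf c0 P Polynomial.C Gs.1 ll').eval 0 ≠ 0 := by
    have h1 := map_Hf c0 P (Polynomial.C : k →+* Polynomial k) (Polynomial.evalRingHom (0 : k)) Gs.1 ll'
    rw [Polynomial.coe_evalRingHom] at h1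
    rw [h1]
    have h2 : (Polynomial.evalRingHom (0 : k)).comp (Polynomial.C : k →+* Polynomial k) = RingHom.id k := by
      refine RingHom.ext fun x => ?_
      simp
    have h3 : (fun i => Polynomial.eval 0 (ll' i)) = (Fin.cons 1 0 : Fin (N + 1 + 1) → k) := by
      funext i
      simp [ll']
    rw [h2, h3, Hf]
    have h4 : cc c0 (RingHom.id k) Gs.1 (Fin.cons 1 0) = c0 := by
      funext s
      exact cc_G0 c0 s
    rw [h4]
    exact hc1
  have hndvd : ¬ p.map (σ Gs).toRingHom ∣ q.map (σ Gs).toRingHom := by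
    rw [hp, hq]
    rintro ⟨w, hw⟩
    apply hqz
    rw [hw, Polynomial.eval_mul, hpz, zero_mul]
  obtain ⟨r, hr0, hr⟩ := NonDiv.main p q (σ Gs) (by rw [hp]; exact hp0) hndvd
  have hrne : r ≠ 0 := by
    rintro rfl
    exact hr0 (map_zero _)
  refine Groth.Agent.Lefpen.H702.PolyFun.isGeneric_of_mvPolynomial
    (Groth.Agent.Lefpen.H702.PolyFun.formCoords (N + 1) k d) hrne fun G hG Ω _ φ a hker => ?_
  have hnd := hr (σ G) hG
  rw [hp, hq] at hnd
  have hGa : eval₂ φ a G.1 = 0 := by
    have : G.1 ∈ RingHom.ker (eval₂Hom φ a) := by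
      rw [hker]
      exact Ideal.mem_span_singleton_self _
    exact this
  have hprod : a 0 * Hf c0 P φ G.1 a ≠ 0 := by
    intro h0
    apply hnd
    have hU : (X 0 * Hf c0 P C G.1 X : MvPolynomial (Fin (N + 1 + 1)) k) ∈ RingHom.ker (eval₂Hom φ a) := by
      rw [RingHom.mem_ker, map_mul, map_Hf]
      have h2 : (eval₂Hom φ a).comp (C : k →+* MvPolynomial (Fin (N + 1 + 1)) k) = φ := by
        refine RingHom.ext fun x => ?_
        simp
      rw [h2]
      simp only [coe_eval₂Hom, eval₂_X]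
      exact h0
    rw [hker, Ideal.mem_span_singleton] at hU
    have h5 := map_dvd (eval₂Hom (Polynomial.C : k →+* Polynomial k) ll') hU
    rw [map_mul, map_Hf] at h5
    have h2 : (eval₂Hom (Polynomial.C : k →+* Polynomial k) ll').comp (C : k →+* MvPolynomial (Fin (N + 1 + 1)) k) =
        Polynomial.C := by
      refine RingHom.ext fun x => ?_
      simp
    rw [h2] at h5
    simp only [coe_eval₂Hom, eval₂_X] at h5
    have h6 : ll' 0 = 1 := by simp [ll']
    rw [h6, one_mul] at h5
    exact h5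
  have ha : a 0 ≠ 0 := left_ne_zero_of_mul hprod
  have hHf : Hf c0 P φ G.1 a ≠ 0 := right_ne_zero_of_mul hprod
  have hJ : JacCond (gs φ G.1 a d) := by
    have h1 := hP Ω (eval₂Hom φ (cc c0 φ G.1 a)) hHf
    have h2 : (fun i => map (eval₂Hom φ (cc c0 φ G.1 a)) (gen k N d (fun i => (i : ℕ) + 1) i)) = gs φ G.1 a d := by
      funext i
      exact map_gen c0 φ G.1 a i
    rwa [h2] at h1
  have hg : ∀ i, constantCoeff (gs φ G.1 a d i) = 0 := by
    intro i
    rw [constantCoeff_eq]
    refine (gs_isHomogeneous φ G.1 a i).coeff_eq_zero ?_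
    rw [map_zero]
    omega
  have hdom := Groth.Agent.Lefpen.H718.Grade.isDomain (gs φ G.1 a d) (gs_isHomogeneous φ G.1 a) hg hJ
    (n := N - d) (by omega) (by omega)
  refine isPrime_lineIdeal φ G a ha ?_
  have hGd : G.1.totalDegree ≤ d := ((mem_homogeneousSubmodule d G.1).1 G.2).totalDegree_le
  rw [span_gs φ G.1 a hGd hGa]
  exact (Ideal.Quotient.isDomain_iff_prime _).1 hdom

/-- **Node H2**, in terms of domains. -/
theorem isGeneric_isDomain [Infinite k] (hd : 1 ≤ d) (hdn : d + 2 ≤ n) :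
    LefPen.IsGeneric k {G : LefPen.Form n k d | ∀ (Ω : Type u) [Field Ω] (φ : k →+* Ω) (a : Fin (n + 1) → Ω),
      RingHom.ker (eval₂Hom φ a) = Ideal.span {G.1} →
        IsDomain (MvPolynomial (Fin (n + 1)) Ω ⧸ lineIdeal φ G.1 a)} :=
  Groth.Agent.Lefpen.H702.PolyFun.IsGeneric.mono (isGeneric_isPrime hd hdn) fun _ hG Ω _ φ a h =>
    (Ideal.Quotient.isDomain_iff_prime _).2 (hG Ω φ a h)

end Final

end Groth.Agent.Fano.K254.H2
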