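import Groth.Agent.S2933
import Groth.Agent.Lefpen.H718.Reg
import Groth.Agent.Ega4C.HullCM
import Groth.Agent.Models.CMSeq
import Groth.Agent.CalgA.SerreLocal
import Groth.Agent.Ega4B.DimFT2
import Groth.Agent.SchFin.K868.Conn
import Mathlib.RingTheory.MvPolynomial.WeightedHomogeneous

/-!
# Hartshorne connectedness for weighted homogeneous complete intersections

`S = k[T_i : i ∈ σ]`, `A = S/(f_1..f_r)`, `dim A + r ≤ #σ`.
* `depth_eq_height`: `A_q` has depth `ht q` for every prime `q`.
* `dim_minimal`: `dim A/q = #σ - r` for every minimal prime.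
* `connectedSpace`: `Spec A` is connected if the `f_j` are weighted homogeneous of positive degree for positive
  weights.
* `main`: if moreover `A_p` is a domain off a closed set of codimension at least `2`, then `A` has only one minimal
  prime.
-/

set_option autoImplicit false
universe u v

open MvPolynomial IsLocalRing RingTheory.Sequence

namespace Groth.Agent.Fano.K254.HartCI

section Local

variable {R : Type u} [CommRing R] [IsRegularLocalRing R]

theorem isRegular_of_height (rs : List R) (hmem : ∀ r ∈ rs, r ∈ maximalIdeal R)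
    (hh : (rs.length : ℕ∞) ≤ (Ideal.ofList rs).height) : IsRegular R rs :=
  Groth.Agent.Models.CMSeq.isRegular_of_ringKrullDim_le rs hmem
    (Groth.Agent.Ega4C.HullCM.ringKrullDim_quotient_add_le _ _ hh)

theorem depth_quot (rs : List R) (hmem : ∀ r ∈ rs, r ∈ maximalIdeal R)
    (hh : (rs.length : ℕ∞) ≤ (Ideal.ofList rs).height) [IsLocalRing (R ⧸ Ideal.ofList rs)] :
    ((LocCoh.depth (R ⧸ Ideal.ofList rs) (R ⧸ Ideal.ofList rs) : ℕ∞) : WithBot ℕ∞) =
      ringKrullDim (R ⧸ Ideal.ofList rs) := by
  have hreg := isRegular_of_height rs hmem hh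
  have h1 := Groth.Agent.Ega4C.HullCM.cm_quot_ofList
    (Groth.Agent.Models.CMSeq.isCohenMacaulayModule_self (R := R)) rs hmem hreg.toIsWeaklyRegular
  have eq : Ideal.ofList rs • (⊤ : Ideal R) = Ideal.ofList rs := by simp
  have h2 : LocCoh.IsCohenMacaulayModule R (R ⧸ Ideal.ofList rs) := by
    have e : (R ⧸ Ideal.ofList rs • (⊤ : Submodule R R)) ≃ₗ[R] (R ⧸ Ideal.ofList rs) :=
      Submodule.quotEquivOfEq _ _ eq
    exact (Groth.Agent.CalgB.CM2.cm_congr e).1 h1
  rw [LocCoh.IsCohenMacaulayModule, Module.supportDim_quotient_eq_ringKrullDim] at h2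
  rw [h2]
  congr 1
  exact (Groth.Agent.Ega4A.DepthBasic.depth_congr_of_surjective (Ideal.Quotient.mk (Ideal.ofList rs))
    Ideal.Quotient.mk_surjective (R ⧸ Ideal.ofList rs) (R ⧸ Ideal.ofList rs) (AddEquiv.refl _)
    (fun r m => by rfl)).symm

end Local

variable {k : Type u} [Field k] {σ : Type v} [Finite σ] {r : ℕ} (f : Fin r → MvPolynomial σ k)

/-- The coordinate ring. -/
abbrev A : Type (max u v) := MvPolynomial σ k ⧸ Ideal.span (Set.range f)

theorem ringKrullDim_mvPolynomial : ringKrullDim (MvPolynomial σ k) = Nat.card σ := by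
  rw [MvPolynomial.ringKrullDim_of_isNoetherianRing, ringKrullDim_eq_zero_of_field, zero_add]

/-- the height formula in the polynomial ring. -/
theorem height_add (P : Ideal (MvPolynomial σ k)) [P.IsPrime] :
    (P.height : WithBot ℕ∞) + ringKrullDim (MvPolynomial σ k ⧸ P) = Nat.card σ := by
  rw [Groth.Agent.Ega4B.DimFT2.height_add_dim k (MvPolynomial σ k) P, ringKrullDim_mvPolynomial]

theorem exists_nat (P : Ideal (MvPolynomial σ k)) [P.IsPrime] :
    ∃ a b : ℕ, P.height = a ∧ ringKrullDim (MvPolynomial σ k ⧸ P) = b ∧ a + b = Nat.card σ := by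
  have h := height_add P
  have hfin : P.height ≠ ⊤ := Ideal.height_ne_top (Ideal.IsPrime.ne_top inferInstance)
  obtain ⟨a, ha⟩ := ENat.ne_top_iff_exists.1 hfin
  have hnt : Nontrivial (MvPolynomial σ k ⧸ P) := Ideal.Quotient.nontrivial_iff.2 (Ideal.IsPrime.ne_top inferInstance)
  obtain ⟨b, hb⟩ : ∃ b : ℕ, ringKrullDim (MvPolynomial σ k ⧸ P) = b := by
    have h0 : (0 : WithBot ℕ∞) ≤ ringKrullDim (MvPolynomial σ k ⧸ P) := ringKrullDim_nonneg_of_nontrivial
    have h1 : ringKrullDim (MvPolynomial σ k ⧸ P) ≤ Nat.card σ := by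
      rw [← h]
      exact le_add_of_nonneg_left (by exact_mod_cast (zero_le : (0:ℕ∞) ≤ P.height))
    generalize ringKrullDim (MvPolynomial σ k ⧸ P) = x at h0 h1
    induction x using WithBot.recBotCoe with
    | bot => simp at h0
    | coe y =>
      have hy : y ≤ (Nat.card σ : ℕ∞) := by exact_mod_cast h1
      have hy' : y ≠ ⊤ := ne_top_of_le_ne_top (ENat.natCast_ne_top _) hy
      obtain ⟨b, hb⟩ := ENat.ne_top_iff_exists.1 hy'
      exact ⟨b, by rw [← hb]; rfl⟩
  refine ⟨a, b, ha.symm, hb, ?_⟩
  rw [← ha, hb] at h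
  exact_mod_cast h


section CI

variable (q : Ideal (A f)) [hq : q.IsPrime]

/-- The equations in the local ring. -/
noncomputable def eqs : List (Localization.AtPrime (q.comap (Ideal.Quotient.mk (Ideal.span (Set.range f))))) :=
  (List.ofFn f).map (algebraMap _ _)

omit hq [Finite σ] in
theorem f_mem (i : Fin r) : f i ∈ q.comap (Ideal.Quotient.mk (Ideal.span (Set.range f))) := by
  change Ideal.Quotient.mk (Ideal.span (Set.range f)) (f i) ∈ q
  have h0 : Ideal.Quotient.mk (Ideal.span (Set.range f)) (f i) = 0 :=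
    Ideal.Quotient.eq_zero_iff_mem.2 (Ideal.subset_span ⟨i, rfl⟩)
  rw [h0]
  exact zero_mem _

omit [Finite σ] in
theorem eqs_mem : ∀ r ∈ eqs f q, r ∈ maximalIdeal
    (Localization.AtPrime (q.comap (Ideal.Quotient.mk (Ideal.span (Set.range f))))) := by
  intro r hr
  obtain ⟨s, hs, rfl⟩ := List.mem_map.1 hr
  obtain ⟨i, rfl⟩ := (List.mem_ofFn' _ _).1 hs
  rw [← Localization.AtPrime.map_eq_maximalIdeal]
  exact Ideal.mem_map_of_mem _ (f_mem f q i)

omit [Finite σ] in
theorem ofList_eqs : Ideal.ofList (eqs f q) = (Ideal.span (Set.range f)).map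
    (algebraMap _ (Localization.AtPrime (q.comap (Ideal.Quotient.mk (Ideal.span (Set.range f)))))) := by
  rw [eqs, ← Ideal.map_ofList]
  congr 1
  rw [Ideal.ofList]
  congr 1
  ext x
  exact List.mem_ofFn' _ _

omit [Finite σ] in
theorem nonempty_equiv : Nonempty (Localization.AtPrime q ≃+*
    (Localization.AtPrime (q.comap (Ideal.Quotient.mk (Ideal.span (Set.range f)))) ⧸
      Ideal.ofList (eqs f q))) := by
  obtain ⟨e⟩ := Groth.Agent.Lefpen.H718.Reg.nonempty_quotient_equiv _ _ q
  exact ⟨e.trans (Ideal.quotEquivOfEq (ofList_eqs f q).symm)⟩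

variable (hdim : ringKrullDim (A f) + r ≤ Nat.card σ)

include hdim

omit hq in
theorem le_height : (r : ℕ∞) ≤ (Ideal.span (Set.range f)).height := by
  rw [Ideal.height_eq_inf_minimalPrimes]
  refine le_iInf₂ fun P hP => ?_
  have hPp : P.IsPrime := hP.1.1
  obtain ⟨a, b, ha, hb, hab⟩ := exists_nat P
  have h1 : ringKrullDim (MvPolynomial σ k ⧸ P) ≤ ringKrullDim (A f) :=
    ringKrullDim_le_of_surjective (Ideal.Quotient.factor hP.1.2) (Ideal.Quotient.factor_surjective hP.1.2)
  rw [hb] at h1
  have h2 : ((b : ℕ) : WithBot ℕ∞) + (r : ℕ) ≤ (Nat.card σ : ℕ) :=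
    le_trans (add_le_add_left h1 _) hdim
  have h3 : b + r ≤ Nat.card σ := by exact_mod_cast h2
  rw [ha]
  exact_mod_cast (by omega : r ≤ a)

theorem le_height_eqs : ((eqs f q).length : ℕ∞) ≤ (Ideal.ofList (eqs f q)).height := by
  rw [ofList_eqs]
  have h1 := le_height f hdim
  have h2 : (eqs f q).length = r := by simp [eqs]
  rw [h2]
  exact h1.trans (Groth.Agent.Ega4C.HullCM.height_le_height_map
    (q.comap (Ideal.Quotient.mk (Ideal.span (Set.range f)))).primeCompl _)

theorem depth_eq_ringKrullDim :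
    ((LocCoh.depth (Localization.AtPrime q) (Localization.AtPrime q) : ℕ∞) : WithBot ℕ∞) =
      ringKrullDim (Localization.AtPrime q) := by
  obtain ⟨e⟩ := nonempty_equiv f q
  have hnt := e.injective.nontrivial
  have hloc : IsLocalRing (Localization.AtPrime (q.comap (Ideal.Quotient.mk (Ideal.span (Set.range f)))) ⧸
      Ideal.ofList (eqs f q)) := IsLocalRing.of_surjective' (Ideal.Quotient.mk _) Ideal.Quotient.mk_surjective
  have h1 : ringKrullDim (Localization.AtPrime q) = ringKrullDim (Localization.AtPrime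
      (q.comap (Ideal.Quotient.mk (Ideal.span (Set.range f)))) ⧸ Ideal.ofList (eqs f q)) :=
    ringKrullDim_eq_of_ringEquiv e
  have h2 : LocCoh.depth (Localization.AtPrime q) (Localization.AtPrime q) = LocCoh.depth (Localization.AtPrime
      (q.comap (Ideal.Quotient.mk (Ideal.span (Set.range f)))) ⧸ Ideal.ofList (eqs f q)) (Localization.AtPrime
      (q.comap (Ideal.Quotient.mk (Ideal.span (Set.range f)))) ⧸ Ideal.ofList (eqs f q)) :=
    Groth.Agent.CalgA.DepthSmall.depth_ringEquiv e
  rw [h1, h2]
  exact depth_quot _ (eqs_mem f q) (le_height_eqs f q hdim)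

theorem depth_eq_height :
    LocCoh.depth (Localization.AtPrime q) (Localization.AtPrime q) = q.height := by
  have h := (depth_eq_ringKrullDim f q hdim).trans
    (IsLocalization.AtPrime.ringKrullDim_eq_height q (Localization.AtPrime q))
  exact_mod_cast h

theorem ringKrullDim_add :
    ringKrullDim (Localization.AtPrime q) + r = ringKrullDim
      (Localization.AtPrime (q.comap (Ideal.Quotient.mk (Ideal.span (Set.range f))))) := by
  obtain ⟨e⟩ := nonempty_equiv f q
  have h := ringKrullDim_add_length_eq_ringKrullDim_of_isRegular _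
    (isRegular_of_height _ (eqs_mem f q) (le_height_eqs f q hdim))
  have h2 : (eqs f q).length = r := by simp [eqs]
  rw [h2] at h
  have h1 : ringKrullDim (Localization.AtPrime q) = ringKrullDim (Localization.AtPrime
      (q.comap (Ideal.Quotient.mk (Ideal.span (Set.range f)))) ⧸ Ideal.ofList (eqs f q)) :=
    ringKrullDim_eq_of_ringEquiv e
  rw [h1, h]

/-- `ht q + dim A/q + r = #σ`. -/
theorem height_add_dim_add : (q.height : WithBot ℕ∞) + ringKrullDim (A f ⧸ q) + r = Nat.card σ := by
  have h1 := ringKrullDim_add f q hdim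
  rw [IsLocalization.AtPrime.ringKrullDim_eq_height q (Localization.AtPrime q),
    IsLocalization.AtPrime.ringKrullDim_eq_height
      (q.comap (Ideal.Quotient.mk (Ideal.span (Set.range f)))) (Localization.AtPrime
      (q.comap (Ideal.Quotient.mk (Ideal.span (Set.range f)))))] at h1
  have h2 := height_add (q.comap (Ideal.Quotient.mk (Ideal.span (Set.range f))))
  rw [← h1] at h2
  have h3 : ringKrullDim (MvPolynomial σ k ⧸ q.comap (Ideal.Quotient.mk (Ideal.span (Set.range f)))) =
      ringKrullDim (A f ⧸ q) := by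
    refine ringKrullDim_eq_of_ringEquiv (RingEquiv.ofBijective (Ideal.quotientMap q
      (Ideal.Quotient.mk (Ideal.span (Set.range f))) le_rfl) ⟨Ideal.quotientMap_injective, ?_⟩)
    exact Ideal.quotientMap_surjective Ideal.Quotient.mk_surjective
  rw [← h2, h3]
  abel

end CI

section Conn

variable (w : σ → ℕ) (hw : ∀ i, 0 < w i) (m : Fin r → ℕ) (hf : ∀ j, IsWeightedHomogeneous w (f j) (m j))

/-- an idempotent polynomial is constant. -/
theorem idem_poly {B : Type*} [CommRing B] (F : Polynomial B) (hF : IsIdempotentElem F) :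
    F = Polynomial.C (F.coeff 0) := by
  have key : ∀ x : Polynomial B, IsIdempotentElem x → x.coeff 0 = 0 → x = 0 := by
    intro x hx h0
    obtain ⟨y, hy⟩ := Polynomial.X_dvd_iff.2 h0
    ext i
    have hpow : x ^ (i + 1) = x := hx.pow_succ_eq i
    have h1 : Polynomial.X ^ (i + 1) ∣ x := by
      rw [← hpow, hy, mul_pow]
      exact dvd_mul_right _ _
    rw [Polynomial.X_pow_dvd_iff] at h1
    rw [h1 i (Nat.lt_succ_self i), Polynomial.coeff_zero]
  have he : IsIdempotentElem (F.coeff 0) := by
    have := congrArg (fun q : Polynomial B => q.coeff 0) hF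
    simpa [IsIdempotentElem, Polynomial.mul_coeff_zero] using this
  have hC : IsIdempotentElem (Polynomial.C (F.coeff 0)) := by
    rw [IsIdempotentElem, ← Polynomial.C_mul, he]
  have hF' : F * F = F := hF
  have hC' : Polynomial.C (F.coeff 0) * Polynomial.C (F.coeff 0) = Polynomial.C (F.coeff 0) := hC
  have h1 : F * (1 - Polynomial.C (F.coeff 0)) = 0 := by
    refine key _ ?_ ?_
    · rw [IsIdempotentElem]
      linear_combination ((1 - Polynomial.C (F.coeff 0)) ^ 2) * hF' + F * hC'
    · rw [Polynomial.mul_coeff_zero, Polynomial.coeff_sub, Polynomial.coeff_C_zero, Polynomial.coeff_one_zero,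
        mul_sub, mul_one, he.eq, sub_self]
  have h2 : (1 - F) * Polynomial.C (F.coeff 0) = 0 := by
    refine key _ ?_ ?_
    · rw [IsIdempotentElem]
      linear_combination ((1 - F) ^ 2) * hC' + Polynomial.C (F.coeff 0) * hF'
    · rw [Polynomial.mul_coeff_zero, Polynomial.coeff_sub, Polynomial.coeff_C_zero, Polynomial.coeff_one_zero,
        sub_mul, one_mul, he.eq, sub_self]
  linear_combination h1 - h2

/-- scaling of a weighted homogeneous polynomial. -/
theorem aeval_scale {S : Type*} [CommRing S] [Algebra k S] {w : σ → ℕ} {p : MvPolynomial σ k} {n : ℕ}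
    (hp : IsWeightedHomogeneous w p n) (x : σ → S) (t : S) :
    aeval (fun c => t ^ (w c) * x c) p = t ^ n * aeval x p := by
  have := Fintype.ofFinite σ
  rw [aeval_def, aeval_def, eval₂_eq', eval₂_eq', Finset.mul_sum]
  refine Finset.sum_congr rfl fun d hd => ?_
  have h1 : Finsupp.weight w d = n := hp (mem_support_iff.1 hd)
  have h2 : (∏ i, (t ^ (w i) * x i) ^ d i) = t ^ n * ∏ i, x i ^ d i := by
    simp_rw [mul_pow, ← pow_mul]
    rw [Finset.prod_mul_distrib, Finset.prod_pow_eq_pow_sum, ← h1, Finsupp.weight_eq_sum]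
    congr 2
    refine Finset.sum_congr rfl fun i _ => ?_
    rw [smul_eq_mul, mul_comm]
  rw [h2]
  ring

omit [Finite σ] in
theorem aeval_mk (j : Fin r) : aeval (fun i => (Ideal.Quotient.mk (Ideal.span (Set.range f)) (X i) : A f)) (f j) = 0 := by
  have h : (aeval (fun i => (Ideal.Quotient.mk (Ideal.span (Set.range f)) (X i) : A f)) :
      MvPolynomial σ k →ₐ[k] A f) = Ideal.Quotient.mkₐ k _ := by
    ext i
    simp
  rw [h]
  exact Ideal.Quotient.eq_zero_iff_mem.2 (Ideal.subset_span ⟨j, rfl⟩)

/-- the coaction `T_i ↦ t^(w_i) T_i`. -/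
noncomputable def coact : A f →+* Polynomial (A f) :=
  Ideal.Quotient.lift _ (aeval (fun i => (Polynomial.X : Polynomial (A f)) ^ w i *
    Polynomial.C (Ideal.Quotient.mk (Ideal.span (Set.range f)) (X i))) :
      MvPolynomial σ k →ₐ[k] Polynomial (A f)).toRingHom (by
    intro a ha
    have hle : Ideal.span (Set.range f) ≤ RingHom.ker (aeval (fun i => (Polynomial.X : Polynomial (A f)) ^ w i *
        Polynomial.C (Ideal.Quotient.mk (Ideal.span (Set.range f)) (X i))) :
          MvPolynomial σ k →ₐ[k] Polynomial (A f)).toRingHom := by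
      rw [Ideal.span_le]
      rintro _ ⟨j, rfl⟩
      change aeval _ (f j) = 0
      refine (aeval_scale (S := Polynomial (A f)) (hf j)
        (fun i => Polynomial.C (Ideal.Quotient.mk (Ideal.span (Set.range f)) (X i))) Polynomial.X).trans ?_
      have h : aeval (fun i => (Polynomial.C (Ideal.Quotient.mk (Ideal.span (Set.range f)) (X i)) :
          Polynomial (A f))) (f j) = Polynomial.C (aeval (fun i => (Ideal.Quotient.mk (Ideal.span (Set.range f)) (X i) : A f)) (f j)) := by
        have h2 : (aeval (fun i => (Polynomial.C (Ideal.Quotient.mk (Ideal.span (Set.range f)) (X i)) :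
          Polynomial (A f))) : MvPolynomial σ k →ₐ[k] Polynomial (A f)) =
          ((Polynomial.CAlgHom (R := A f) (A := A f)).restrictScalars k).comp
            (aeval (fun i => (Ideal.Quotient.mk (Ideal.span (Set.range f)) (X i) : A f))) := by
          ext i
          simp
        rw [h2]
        rfl
      rw [h, aeval_mk, map_zero, mul_zero]
    exact hle ha)

theorem eval_one_coact (a : A f) : (coact f w m hf a).eval 1 = a := by
  have h : (Polynomial.evalRingHom (1 : A f)).comp (coact f w m hf) = RingHom.id (A f) := by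
    refine Ideal.Quotient.ringHom_ext ?_
    refine MvPolynomial.ringHom_ext (fun c => ?_) (fun i => ?_)
    · simp only [coact, RingHom.comp_apply]
      change Polynomial.eval 1 (aeval _ (C c)) = _
      rw [← MvPolynomial.algebraMap_eq, AlgHom.commutes, IsScalarTower.algebraMap_apply k (A f) (Polynomial (A f)),
        Polynomial.algebraMap_eq, Polynomial.eval_C]
      rfl
    · simp only [coact, RingHom.comp_apply]
      change Polynomial.eval 1 (aeval _ (X i)) = _
      rw [aeval_X]
      simp
  exact congrArg (fun g : A f →+* A f => g a) h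

include hw in
theorem eval_zero_coact (a : A f) : ∃ c : k, (coact f w m hf a).eval 0 = algebraMap k (A f) c := by
  obtain ⟨p, rfl⟩ := Ideal.Quotient.mk_surjective a
  refine ⟨constantCoeff p, ?_⟩
  have h : ((Polynomial.evalRingHom (0 : A f)).comp (coact f w m hf)).comp (Ideal.Quotient.mk _) =
      (algebraMap k (A f)).comp (constantCoeff (R := k) (σ := σ)) := by
    refine MvPolynomial.ringHom_ext (fun c => ?_) (fun i => ?_)
    · simp only [coact, RingHom.comp_apply]
      change Polynomial.eval 0 (aeval _ (C c)) = _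
      rw [← MvPolynomial.algebraMap_eq, AlgHom.commutes, IsScalarTower.algebraMap_apply k (A f) (Polynomial (A f)),
        Polynomial.algebraMap_eq, Polynomial.eval_C]
      simp
    · simp only [coact, RingHom.comp_apply]
      change Polynomial.eval 0 (aeval _ (X i)) = _
      rw [aeval_X]
      simp [(hw i).ne']
  exact congrArg (fun g : MvPolynomial σ k →+* A f => g p) h

omit [Finite σ] in
theorem nontrivial_A (h0 : ∀ j, constantCoeff (f j) = 0) : Nontrivial (A f) := by
  rw [Ideal.Quotient.nontrivial_iff]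
  intro h
  have hle : Ideal.span (Set.range f) ≤ RingHom.ker (constantCoeff (R := k) (σ := σ)) := by
    rw [Ideal.span_le]
    rintro _ ⟨j, rfl⟩
    exact h0 j
  rw [h] at hle
  have h1 : (1 : MvPolynomial σ k) ∈ RingHom.ker (constantCoeff (R := k) (σ := σ)) := hle trivial
  rw [RingHom.mem_ker, map_one] at h1
  exact one_ne_zero h1

omit [Finite σ] in
theorem constantCoeff_eq_zero (hm : ∀ j, 0 < m j) (hf : ∀ j, IsWeightedHomogeneous w (f j) (m j)) (j : Fin r) :
    constantCoeff (f j) = 0 := by
  by_contra h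
  have h1 := hf j h
  rw [map_zero] at h1
  exact (hm j).ne h1

include hw in
/-- The spectrum of a quotient of a positively graded polynomial ring by weighted homogeneous polynomials of
positive degree is connected. -/
theorem connectedSpace (hm : ∀ j, 0 < m j) (hf : ∀ j, IsWeightedHomogeneous w (f j) (m j)) :
    ConnectedSpace (PrimeSpectrum (A f)) := by
  have hnt := nontrivial_A f (constantCoeff_eq_zero f w m hm hf)
  rw [K868.SchFin.connectedSpace_primeSpectrum_iff]
  refine ⟨hnt, fun e he => ?_⟩
  have h1 : IsIdempotentElem (coact f w m hf e) := by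
    rw [IsIdempotentElem, ← map_mul, he]
  have h2 := idem_poly _ h1
  obtain ⟨c, hc⟩ := eval_zero_coact f w hw m hf e
  have h3 := eval_one_coact f w m hf e
  rw [h2, Polynomial.eval_C] at h3 hc
  rw [hc] at h3
  have hinj : Function.Injective (algebraMap k (A f)) := (algebraMap k (A f)).injective
  have h4 : c * c = c := by
    apply hinj
    rw [map_mul, h3]
    exact he
  rcases eq_or_ne c 0 with h5 | h5
  · left
    rw [← h3, h5, map_zero]
  · right
    rw [← h3, mul_right_cancel₀ h5 (h4.trans (one_mul c).symm), map_one]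

end Conn

/-- Hartshorne's connectedness theorem for weighted homogeneous complete intersections. -/
theorem subsingleton_minimalPrimes (w : σ → ℕ) (hw : ∀ i, 0 < w i) (m : Fin r → ℕ) (hm : ∀ j, 0 < m j)
    (hf : ∀ j, IsWeightedHomogeneous w (f j) (m j)) (hdim : ringKrullDim (A f) + r ≤ Nat.card σ)
    (hdom : ∀ p : PrimeSpectrum (A f), ringKrullDim (A f ⧸ p.asIdeal) + r + 1 ≥ Nat.card σ →
      ∀ q₁ q₂ : PrimeSpectrum (A f), q₁.asIdeal ∈ minimalPrimes (A f) → q₂.asIdeal ∈ minimalPrimes (A f) →
        q₁ ≤ p → q₂ ≤ p → q₁ = q₂) :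
    (minimalPrimes (A f)).Subsingleton := by
  have hconn := connectedSpace f w hw m hm hf
  intro P hP Q hQ
  obtain ⟨l, h1, h2, h3, h4⟩ := Groth.Agent.S2933.result (A f) 2 (by norm_num) (fun p hp => by
    rw [depth_eq_height f p.asIdeal hdim]
    exact hp) ⟨P, hP.1.1⟩ ⟨Q, hQ.1.1⟩ hP hQ
  have hchain : ∀ (l : List (PrimeSpectrum (A f))) (a b : PrimeSpectrum (A f)), l.head? = some a →
      l.getLast? = some b → (∀ p ∈ l, p.asIdeal ∈ minimalPrimes (A f)) →
      List.IsChain (fun p q => ∃ r : PrimeSpectrum (A f), p ≤ r ∧ q ≤ r ∧ r.asIdeal.height ≤ (2 - 1 : ℕ)) l →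
      a = b := by
    intro l
    induction l with
    | nil => intro a b h; simp at h
    | cons x l ih =>
      intro a b h1 h2 h3 h4
      rw [List.head?_cons, Option.some_inj] at h1
      subst h1
      cases l with
      | nil =>
        rw [List.getLast?_singleton, Option.some_inj] at h2
        exact h2
      | cons y l =>
        rw [List.isChain_cons_cons] at h4
        obtain ⟨⟨s, hs1, hs2, hs3⟩, h5⟩ := h4
        have hxy : x = y := by
          refine hdom s ?_ x y (h3 x (by simp)) (h3 y (by simp)) hs1 hs2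
          have h6 := height_add_dim_add f s.asIdeal hdim
          rw [← h6]
          have h7 : ((s.asIdeal.height : ℕ∞) : WithBot ℕ∞) ≤ 1 := by exact_mod_cast hs3
          calc ((s.asIdeal.height : ℕ∞) : WithBot ℕ∞) + ringKrullDim (A f ⧸ s.asIdeal) + r
              ≤ 1 + ringKrullDim (A f ⧸ s.asIdeal) + r := by gcongr
            _ = ringKrullDim (A f ⧸ s.asIdeal) + r + 1 := by abel
        rw [hxy]
        refine ih y b rfl ?_ (fun p hp => h3 p (List.mem_cons_of_mem _ hp)) h5
        rwa [List.getLast?_cons_cons] at h2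
  have := hchain l _ _ h1 h2 h3 h4
  exact congrArg PrimeSpectrum.asIdeal this

theorem eq_of_isDomain {B : Type u} [CommRing B] (p : PrimeSpectrum B) [IsDomain (Localization.AtPrime p.asIdeal)]
    (q₁ q₂ : PrimeSpectrum B) (h1 : q₁.asIdeal ∈ minimalPrimes B) (h2 : q₂.asIdeal ∈ minimalPrimes B)
    (hq1 : q₁ ≤ p) (hq2 : q₂ ≤ p) : q₁ = q₂ := by
  have key : ∀ q : PrimeSpectrum B, q.asIdeal ∈ minimalPrimes B → q ≤ p →
      q.asIdeal = RingHom.ker (algebraMap B (Localization.AtPrime p.asIdeal)) := by
    intro q hq hqp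
    have hle : RingHom.ker (algebraMap B (Localization.AtPrime p.asIdeal)) ≤ q.asIdeal := by
      intro x hx
      rw [RingHom.mem_ker, IsLocalization.map_eq_zero_iff p.asIdeal.primeCompl] at hx
      obtain ⟨s, hs⟩ := hx
      have h3 : (s : B) * x ∈ q.asIdeal := by rw [hs]; exact zero_mem _
      exact (q.isPrime.mem_or_mem h3).resolve_left fun h4 => s.2 (hqp h4)
    exact le_antisymm (hq.2 ⟨RingHom.ker_isPrime _, bot_le⟩ hle) hle
  exact PrimeSpectrum.ext ((key q₁ h1 hq1).trans (key q₂ h2 hq2).symm)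

/-- **Main theorem.**  A weighted homogeneous complete intersection which is (locally) a domain off a closed set of
codimension at least two is irreducible. -/
theorem main (w : σ → ℕ) (hw : ∀ i, 0 < w i) (m : Fin r → ℕ) (hm : ∀ j, 0 < m j)
    (hf : ∀ j, IsWeightedHomogeneous w (f j) (m j)) (hdim : ringKrullDim (A f) + r ≤ Nat.card σ)
    (U : Set (PrimeSpectrum (A f))) (hU : ∀ p ∈ U, IsDomain (Localization.AtPrime p.asIdeal))
    (hZ : ∀ p : PrimeSpectrum (A f), p ∉ U → ringKrullDim (A f ⧸ p.asIdeal) + r + 2 ≤ Nat.card σ) :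
    (minimalPrimes (A f)).Subsingleton := by
  refine subsingleton_minimalPrimes f w hw m hm hf hdim fun p hp q₁ q₂ h1 h2 hq1 hq2 => ?_
  by_cases hpU : p ∈ U
  · have := hU p hpU
    exact eq_of_isDomain p q₁ q₂ h1 h2 hq1 hq2
  · exfalso
    have h3 := hZ p hpU
    obtain ⟨P, hP⟩ : ∃ P : Ideal (MvPolynomial σ k), P = p.asIdeal.comap (Ideal.Quotient.mk _) := ⟨_, rfl⟩
    have h5 := height_add_dim_add f p.asIdeal hdim
    generalize ringKrullDim (A f ⧸ p.asIdeal) = x at h3 hp h5
    induction x using WithBot.recBotCoe with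
    | bot => simp at hp
    | coe y =>
      have hy : y ≠ ⊤ := by
        rintro rfl
        have h6 : ((⊤ : ℕ∞) : WithBot ℕ∞) ≤ (Nat.card σ : WithBot ℕ∞) := by
          refine le_trans ?_ h3
          rw [add_assoc]
          refine le_add_of_nonneg_right ?_
          exact_mod_cast Nat.zero_le (r + 2)
        have h7 : (⊤ : ℕ∞) ≤ (Nat.card σ : ℕ∞) := by exact_mod_cast h6
        exact absurd (top_le_iff.1 h7) (ENat.natCast_ne_top _)
      lift y to ℕ using hy
      have h3' : ((y + r + 2 : ℕ) : WithBot ℕ∞) ≤ ((Nat.card σ : ℕ) : WithBot ℕ∞) := by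
        refine le_trans (le_of_eq ?_) h3
        push_cast
        rfl
      have h3'' : y + r + 2 ≤ Nat.card σ := by exact_mod_cast h3'
      have hp'' : Nat.card σ ≤ y + r + 1 := by exact_mod_cast hp
      omega

/-- the same, topological form. -/
theorem irreducibleSpace (w : σ → ℕ) (hw : ∀ i, 0 < w i) (m : Fin r → ℕ) (hm : ∀ j, 0 < m j)
    (hf : ∀ j, IsWeightedHomogeneous w (f j) (m j)) (hdim : ringKrullDim (A f) + r ≤ Nat.card σ)
    (U : Set (PrimeSpectrum (A f))) (hU : ∀ p ∈ U, IsDomain (Localization.AtPrime p.asIdeal))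
    (hZ : ∀ p : PrimeSpectrum (A f), p ∉ U → ringKrullDim (A f ⧸ p.asIdeal) + r + 2 ≤ Nat.card σ) :
    IrreducibleSpace (PrimeSpectrum (A f)) := by
  have hnt := nontrivial_A f (constantCoeff_eq_zero f w m hm hf)
  have h := main f w hw m hm hf hdim U hU hZ
  rw [PrimeSpectrum.irreducibleSpace_iff_isPrime_nilradical]
  obtain ⟨P, hP⟩ := Ideal.nonempty_minimalPrimes (I := (⊥ : Ideal (A f))) bot_ne_top
  have h2 : nilradical (A f) = P := by
    have h3 : (⊥ : Ideal (A f)).minimalPrimes = {P} := by
      refine Set.eq_singleton_iff_unique_mem.2 ⟨hP, fun Q hQ => h hQ hP⟩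
    have h4 := Ideal.sInf_minimalPrimes (I := (⊥ : Ideal (A f)))
    rw [h3, sInf_singleton] at h4
    exact h4.symm
  rw [h2]
  exact hP.1.1

end Groth.Agent.Fano.K254.HartCI
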