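import Mathlib.LinearAlgebra.Matrix.ToLin
import Mathlib.LinearAlgebra.Matrix.Determinant.Basic
import Mathlib.LinearAlgebra.Matrix.ToLinearEquiv
import Mathlib.Algebra.Polynomial.AlgebraMap
import Mathlib.Algebra.Polynomial.BigOperators
import Mathlib.RingTheory.Polynomial.Basic
import Mathlib.Tactic.LinearCombination

/-!
# Non-divisibility is an open condition

`p q : R[X]`, `R` a `k`-algebra; if at one `k`-point `σ₀` of `R` the polynomial `p` is non-zero and does not divide
`q`, then the same holds at all `k`-points outside the zeros of some `r ∈ R` with `σ₀ r ≠ 0`.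
-/

set_option autoImplicit false
universe u v

open Polynomial

namespace Groth.Agent.Fano.K254.NonDiv

variable {k : Type u} [Field k]

/-- the matrix of the multiples of `p` together with `q`. -/
noncomputable def mat {R : Type v} [CommRing R] (p q : R[X]) (N : ℕ) :
    Matrix (Fin (2 * N + 1)) (Option (Fin (N + 1))) R :=
  fun i j => j.elim (q.coeff i) (fun j => (p * X ^ (j : ℕ)).coeff i)

/-- the polynomial with given coefficients. -/
noncomputable def poly {R : Type v} [CommRing R] {N : ℕ} (x : Option (Fin (N + 1)) → R) : R[X] :=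
  ∑ j : Fin (N + 1), C (x (some j)) * X ^ (j : ℕ)

theorem coeff_poly {R : Type v} [CommRing R] {N : ℕ} (x : Option (Fin (N + 1)) → R) (j : Fin (N + 1)) :
    (poly x).coeff j = x (some j) := by
  rw [poly, finsetSum_coeff, Finset.sum_eq_single j]
  · rw [coeff_C_mul_X_pow, if_pos rfl]
  · intro i _ hi
    rw [coeff_C_mul_X_pow, if_neg]
    intro h
    exact hi (Fin.ext h.symm)
  · intro h
    exact absurd (Finset.mem_univ j) h

theorem natDegree_poly_le {R : Type v} [CommRing R] {N : ℕ} (x : Option (Fin (N + 1)) → R) :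
    (poly x).natDegree ≤ N := by
  refine natDegree_sum_le_of_forall_le _ _ fun j _ => ?_
  refine (natDegree_C_mul_X_pow_le _ _).trans ?_
  have := j.2
  omega

theorem mulVec_mat {R : Type v} [CommRing R] (p q : R[X]) (N : ℕ) (x : Option (Fin (N + 1)) → R)
    (i : Fin (2 * N + 1)) :
    (mat p q N).mulVec x i = (p * poly x + C (x none) * q).coeff i := by
  rw [Matrix.mulVec, dotProduct, Fintype.sum_option, coeff_add, coeff_C_mul, poly, Finset.mul_sum, finsetSum_coeff,
    add_comm]
  congr 1
  · refine Finset.sum_congr rfl fun j _ => ?_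
    change (p * X ^ (j : ℕ)).coeff i * _ = _
    rw [show p * (C (x (some j)) * X ^ (j : ℕ)) = C (x (some j)) * (p * X ^ (j : ℕ)) from mul_left_comm _ _ _,
      coeff_C_mul, mul_comm]
  · change q.coeff i * _ = _
    rw [mul_comm]

theorem mulVec_injective (p q : k[X]) (N : ℕ) (hp : p.natDegree ≤ N) (hq : q.natDegree ≤ N) (hp0 : p ≠ 0)
    (h : ¬ p ∣ q) (x : Option (Fin (N + 1)) → k) (hx : (mat p q N).mulVec x = 0) : x = 0 := by
  have h1 : p * poly x + C (x none) * q = 0 := by
    ext i
    by_cases hi : i < 2 * N + 1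
    · have := congrFun hx ⟨i, hi⟩
      rw [mulVec_mat] at this
      rw [coeff_zero]
      exact this
    · rw [coeff_zero]
      apply coeff_eq_zero_of_natDegree_lt
      refine lt_of_le_of_lt (natDegree_add_le _ _) ?_
      have h2 : (p * poly x).natDegree ≤ 2 * N := by
        refine natDegree_mul_le.trans ?_
        have := natDegree_poly_le x
        omega
      have h3 : (C (x none) * q).natDegree ≤ N := (natDegree_C_mul_le _ _).trans hq
      have : max (p * poly x).natDegree (C (x none) * q).natDegree ≤ 2 * N := max_le h2 (h3.trans (by omega))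
      omega
  have hc : x none = 0 := by
    by_contra hc
    apply h
    refine ⟨-(C (x none)⁻¹ * poly x), ?_⟩
    have h2 : C (x none)⁻¹ * C (x none) = (1 : k[X]) := by
      rw [← C_mul, inv_mul_cancel₀ hc, C_1]
    linear_combination (C (x none)⁻¹) * h1 - q * h2
  rw [hc, C_0, zero_mul, add_zero] at h1
  have h2 := (mul_eq_zero.1 h1).resolve_left hp0
  funext j
  rcases j with _ | j
  · exact hc
  · rw [← coeff_poly x j, h2, coeff_zero]
    rfl

theorem exists_leftInverse {m n : Type*} [Fintype m] [DecidableEq m] [Fintype n] [DecidableEq n]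
    (M : Matrix m n k) (hM : ∀ x, M.mulVec x = 0 → x = 0) : ∃ L : Matrix n m k, L * M = 1 := by
  obtain ⟨g, hg⟩ := LinearMap.exists_leftInverse_of_injective (Matrix.toLin' M)
    ((LinearMap.ker_eq_bot').2 fun x hx => hM x (by simpa using hx))
  refine ⟨LinearMap.toMatrix' g, ?_⟩
  have h := congrArg LinearMap.toMatrix' hg
  rw [LinearMap.toMatrix'_comp, LinearMap.toMatrix'_toLin', LinearMap.toMatrix'_id] at h
  exact h

theorem map_mat {R S : Type*} [CommRing R] [CommRing S] (f : R →+* S) (p q : R[X]) (N : ℕ) :
    (mat p q N).map f = mat (p.map f) (q.map f) N := by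
  ext i j
  rcases j with _ | j
  · simp [mat]
  · change f ((p * X ^ (j : ℕ)).coeff i) = (p.map f * X ^ (j : ℕ)).coeff i
    rw [← coeff_map, Polynomial.map_mul, Polynomial.map_pow, map_X]

/-- **Main lemma.** -/
theorem main {R : Type v} [CommRing R] [Algebra k R] (p q : R[X]) (σ₀ : R →ₐ[k] k)
    (hp : p.map σ₀.toRingHom ≠ 0) (h : ¬ p.map σ₀.toRingHom ∣ q.map σ₀.toRingHom) :
    ∃ r : R, σ₀ r ≠ 0 ∧ ∀ σ : R →ₐ[k] k, σ r ≠ 0 → ¬ p.map σ.toRingHom ∣ q.map σ.toRingHom := by
  classical
  obtain ⟨N, hN1, hN2⟩ : ∃ N, p.natDegree ≤ N ∧ q.natDegree ≤ N := ⟨max p.natDegree q.natDegree, le_max_left _ _,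
    le_max_right _ _⟩
  obtain ⟨L, hL⟩ := exists_leftInverse (mat (p.map σ₀.toRingHom) (q.map σ₀.toRingHom) N)
    (mulVec_injective _ _ N (natDegree_map_le.trans hN1) (natDegree_map_le.trans hN2) hp h)
  have key : ∀ σ : R →ₐ[k] k, σ ((L.map (algebraMap k R)) * mat p q N).det =
      (L * mat (p.map σ.toRingHom) (q.map σ.toRingHom) N).det := by
    intro σ
    change σ.toRingHom _ = _
    rw [RingHom.map_det, ← map_mat]
    congr 1
    rw [RingHom.mapMatrix_apply, Matrix.map_mul]
    congr 1
    ext i j
    simp
  refine ⟨((L.map (algebraMap k R)) * mat p q N).det, ?_, fun σ hσ hdvd => ?_⟩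
  · rw [key, hL, Matrix.det_one]
    exact one_ne_zero
  · rw [key] at hσ
    apply hσ
    rw [← Matrix.exists_mulVec_eq_zero_iff]
    obtain ⟨w, hw⟩ := hdvd
    by_cases hp' : p.map σ.toRingHom = 0
    · refine ⟨Pi.single (some 0) 1, fun h0 => ?_, ?_⟩
      · have := congrFun h0 (some 0)
        simp at this
      · rw [← Matrix.mulVec_mulVec]
        have : (mat (p.map σ.toRingHom) (q.map σ.toRingHom) N).mulVec (Pi.single (some 0) 1) = 0 := by
          ext i
          rw [mulVec_mat, hp']
          simp
        rw [this, Matrix.mulVec_zero]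
    · refine ⟨fun j => j.elim (-1) (fun j => w.coeff j), fun h0 => ?_, ?_⟩
      · have := congrFun h0 none
        simp at this
      · rw [← Matrix.mulVec_mulVec]
        have hwd : w.natDegree ≤ N := by
          by_cases hw0 : w = 0
          · rw [hw0]; simp
          · have h1 := congrArg natDegree hw
            rw [natDegree_mul hp' hw0] at h1
            have h2 : (q.map σ.toRingHom).natDegree ≤ N := natDegree_map_le.trans hN2
            omega
        have hpoly : poly (N := N) (fun j : Option (Fin (N + 1)) => (j.elim (-1) (fun j => w.coeff j) : k)) = w := by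
          rw [poly]
          change ∑ j : Fin (N + 1), C (w.coeff j) * X ^ (j : ℕ) = w
          rw [Fin.sum_univ_eq_sum_range (fun j => C (w.coeff j) * X ^ j) (N + 1)]
          exact (as_sum_range_C_mul_X_pow' w (by omega)).symm
        have : (mat (p.map σ.toRingHom) (q.map σ.toRingHom) N).mulVec
            (fun j => j.elim (-1) (fun j => w.coeff j)) = 0 := by
          ext i
          rw [mulVec_mat, hpoly]
          change (p.map σ.toRingHom * w + C (-1 : k) * q.map σ.toRingHom).coeff i = 0
          rw [hw, C_neg, C_1, neg_one_mul, add_neg_cancel, coeff_zero]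
        rw [this, Matrix.mulVec_zero]

end Groth.Agent.Fano.K254.NonDiv
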